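import Cfsg.Agent.H479.RC.DFive
import Cfsg.Agent.H457.RC.KForm
import Cfsg.Agent.H297.RC.LR

/-!
# S3510, row F, n even: box D5 (helper479)
-/

set_option autoImplicit false
open Cfsg

namespace Cfsg.Agent.H479.RC

open QuadraticMap MulAction
open Cfsg.Agent.LieClassical.OrthCore Cfsg.Agent.LieClassical.OrthTrans
open Cfsg.Agent.LieClassical.OrthSimple Cfsg.Agent.ClassicalGeometry.OrthSemi
open Cfsg.Agent.ClassicalGeometry.OrthAut1 Cfsg.Agent.H106.RC Cfsg.Agent.H93.RC

variable {F V : Type} [Field F] [Finite F] [AddCommGroup V] [Module F V] [FiniteDimensional F V]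
  {Q : QuadraticForm F V} {G Ω : Type} [Group G] [Finite G] [MulAction G Ω] [Nonempty Ω]
  {N : Subgroup G} {ρ : ↥(E Q) →* G}

/-- BOX D5 (bilinear structure over `L = F[κ]`, `dim_L V ≥ 5`). -/
theorem box_D5 (hG : Good Q) (hE : Env G Ω N) (hρ : Rep Q N ρ) (hIH : IH (Nat.card (P Q)))
    {p : ℕ} [CharP F p] {ι : Type} [Finite ι] {x : ι → G} {M : ι → Gam Q} {r : ι → ℕ}
    (hl : ∀ i, Lf ρ (x i) (M i)) (hlin : ∀ i, IsLin (M i)) (hx : PF x r) (hcov : Cov Ω x)
    (h10 : 10 ≤ Module.finrank F V) (κ : V →ₗ[F] V) (s t : F)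
    (hκ : ∀ v, κ (κ v) = s • κ v - t • v) (hirr : ∀ a : F, a * a - s * a + t ≠ 0)
    (hadj : ∀ v w, polar Q (κ v) w = polar Q v (κ w))
    (h2 : (2 : F) = 0 → ∀ v, polar Q v (κ v) = 0)
    (hcom : ∀ i v, (M i).1 (κ v) = κ ((M i).1 v)) : False := by
  obtain ⟨K, _, _, _, _, _, α, hcard, hα, hgen⟩ := H457.RC.exists_K (fun x => by rw [pow_two]; exact hirr x) κ hκ
  have hself : ∀ v w, polar Q (α • v) w = polar Q v (α • w) := fun v w => by rw [hα, hα, hadj]
  obtain ⟨R, l, hKF⟩ := H457.RC.exists_KF hgen hself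
  have hRn := hKF.nondeg hG.nondeg
  have hfd : FiniteDimensional K V := Module.Finite.of_restrictScalars_finite F K V
  have h5 : 5 ≤ Module.finrank K V := by
    have := H457.RC.finrank_K (F := F) (K := K) (V := V) hcard
    omega
  have hR : Good R := Cfsg.Agent.LieClassical.OrthFinite.good_of_finite hRn h5
  refine box_D5_of (p := p) hG hE hρ hIH ?_ hl hlin hx hcov hR hKF.form α hgen.notMem ?_ (hgen.self hself)
  · intro κ' _ y L s' h1 h2 h3 h4 h5 h6 u w hu hw huw hu0 hind hL hc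
    exact H297.RC.box_LR hG hE hρ h1 h2 h3 h4 h5 h6 hu hw huw hu0 hind hL hc
  · intro i
    have hsm : ∀ (a : K) (v : V), (M i).1 (a • v) = a • (M i).1 v :=
      hgen.linear (fun u v => add_of_mem (M i).2 u v) (fun a v => hlin i a v)
        (fun v => by rw [hα, hα, hcom])
    obtain ⟨σ, c, hM⟩ := (M i).2
    have hnt : Nontrivial V := Module.nontrivial_of_finrank_pos (R := F) (by omega)
    obtain ⟨v, hv⟩ := exists_ne (0 : V)
    have hv' : (M i).1 v ≠ 0 := by
      intro h0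
      apply hv
      apply (M i).1.injective
      rw [h0, hM.map_zero]
    have hσ : ∀ b, σ b = b := by
      intro b
      have h1 := hlin i b v
      rw [hM.smul] at h1
      exact smul_left_injective F hv' h1
    have hQM : ∀ v, Q ((M i).1 v) = c * Q v := by
      intro v
      rw [hM.form, hσ]
    have hRM := hKF.sim (M i).1 c hsm hQM
    refine ⟨⟨(M i).1, ⟨RingEquiv.refl K, algebraMap F K c, ⟨?_, hM.add, hsm, hRM⟩⟩⟩, rfl⟩
    rw [Ne, map_eq_zero]
    exact hM.ne

end Cfsg.Agent.H479.RC
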