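import Cfsg.Agent.H479.RC.Restr
import Cfsg.Agent.H140.OreO.Cls

/-!
# S3510, row F, box D5: bilinear structure over an extension field (helper479)
-/

set_option autoImplicit false
set_option linter.unusedSectionVars false
open Cfsg

namespace Cfsg.Agent.H479.RC

open QuadraticMap MulAction
open Cfsg.Agent.LieClassical.OrthCore Cfsg.Agent.LieClassical.OrthTrans
open Cfsg.Agent.LieClassical.OrthSimple Cfsg.Agent.ClassicalGeometry.OrthSemi
open Cfsg.Agent.ClassicalGeometry.OrthAut1 Cfsg.Agent.H106.RC Cfsg.Agent.H93.RC Cfsg.Agent.H188.RC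
open Cfsg.Agent.H138.RC

variable {F V L : Type} [Field F] [Finite F] [AddCommGroup V] [Module F V] [FiniteDimensional F V] [Field L]
  [Algebra F L] [Module L V] [IsScalarTower F L V] {Q : QuadraticForm F V} {QL : QuadraticForm L V}
  {l : L →ₗ[F] F}

/-- a linear semisimilitude is a similitude -/
theorem exists_mult (hG : Good Q) (M : Gam Q) (hM : IsLin M) :
    ∃ c : F, c ≠ 0 ∧ ∀ v w, polar Q (M.1 v) (M.1 w) = c * polar Q v w := by
  obtain ⟨σ, c, h⟩ := M.2
  have hnt : Nontrivial V := Module.nontrivial_of_finrank_pos (R := F) (by have := hG.dim; omega)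
  obtain ⟨v, hv⟩ := exists_ne (0 : V)
  have hv' : M.1 v ≠ 0 := by
    intro h0
    apply hv
    apply M.1.injective
    rw [h0, h.map_zero]
  have hσ : ∀ b, σ b = b := by
    intro b
    have h1 := hM b v
    rw [h.smul] at h1
    exact smul_left_injective F hv' h1
  refine ⟨c, h.ne, fun v w => ?_⟩
  rw [h.polar, hσ]

/-- members acting as scalars of `L` -/
theorem scal_member (hG : Good Q) {G Ω : Type*} [Group G] [MulAction G Ω] {N : Subgroup G} {ρ : ↥(E Q) →* G}
    (hE : Env G Ω N) (hρ : Rep Q N ρ) {x : G} {M : Gam Q} (hl : Lf ρ x M) (hM : IsLin M) (hx1 : x ≠ 1)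
    (hadj : ∀ (a : L) (v w : V), polar Q (a • v) w = polar Q v (a • w)) {a : L} (ha : ∀ v, M.1 v = a • v) :
    (∃ c : F, a * a = algebraMap F L c) ∧ (∀ b : F, a ≠ algebraMap F L b) ∧ x ^ 2 = 1 := by
  obtain ⟨c, hc, h1⟩ := exists_mult hG M hM
  have hnt : Nontrivial V := Module.nontrivial_of_finrank_pos (R := F) (by have := hG.dim; omega)
  have h2 : ∀ w : V, (a * a) • w = c • w := by
    intro w
    rw [← sub_eq_zero]
    apply hG.nondeg
    intro v
    have h3 := h1 v w
    rw [ha, ha, hadj, smul_smul] at h3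
    rw [polar_comm, polar_sub_right, h3, polar_smul_right, smul_eq_mul, sub_self]
  obtain ⟨w, hw⟩ := exists_ne (0 : V)
  have h3 : a * a = algebraMap F L c := by
    have h4 := h2 w
    rw [← algebraMap_smul L c w] at h4
    exact smul_left_injective L hw h4
  refine ⟨⟨c, h3⟩, ?_, ?_⟩
  · intro b hb
    apply hx1
    rw [hl.eq_one_iff hG hE hρ]
    refine ⟨b, ?_, fun v => ?_⟩
    · rintro rfl
      rw [hb, map_zero, mul_zero] at h3
      exact hc ((map_eq_zero _).1 h3.symm)
    · rw [ha, hb, algebraMap_smul]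
  · rw [(hl.pow 2).eq_one_iff hG hE hρ]
    refine ⟨c, hc, fun v => ?_⟩
    rw [pow_two]
    show M.1 (M.1 v) = _
    rw [ha, ha, smul_smul, h2]

/-- `-1` is a square if a square root of an element of `F` is not in `F` -/
theorem exists_sq {a : L} {c : F} (hac : a * a = algebraMap F L c) (ha : ∀ b : F, a ≠ algebraMap F L b) :
    (2 : F) ≠ 0 ∧ ∃ s : L, s * s = -1 := by
  have := Fintype.ofFinite F
  have hc : ¬ IsSquare c := by
    rintro ⟨d, hd⟩
    rw [hd, map_mul] at hac
    rcases mul_self_eq_mul_self_iff.1 hac with h | h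
    · exact ha d h
    · exact ha (-d) (by rw [map_neg]; exact h)
  have h2 : (2 : F) ≠ 0 := by
    intro h2
    apply hc
    exact FiniteField.isSquare_of_char_two (CharP.ringChar_of_prime_eq_zero Nat.prime_two (by exact_mod_cast h2)) c
  refine ⟨h2, ?_⟩
  have h2' : ringChar F ≠ 2 := by
    intro h
    apply h2
    have := ringChar.spec F 2
    rw [h] at this
    exact_mod_cast this.2 (dvd_refl 2)
  have hc0 : c ≠ 0 := by rintro rfl; exact hc ⟨0, by simp⟩
  by_cases h1 : IsSquare (-1 : F)
  · obtain ⟨d, hd⟩ := h1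
    exact ⟨algebraMap F L d, by rw [← map_mul, ← hd, map_neg, map_one]⟩
  · have h3 : IsSquare (-1 * c) := by
      rw [FiniteField.isSquare_iff h2' (by simpa using hc0), mul_pow]
      have h4 := FiniteField.pow_dichotomy h2' hc0
      have h5 := FiniteField.pow_dichotomy h2' (neg_ne_zero.2 (one_ne_zero (α := F)))
      rw [FiniteField.isSquare_iff h2' hc0] at hc
      rw [FiniteField.isSquare_iff h2' (neg_ne_zero.2 one_ne_zero)] at h1
      rw [h4.resolve_left hc, h5.resolve_left h1]
      norm_num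
    obtain ⟨d, hd⟩ := h3
    have ha0 : a ≠ 0 := by
      rintro rfl
      rw [mul_zero] at hac
      exact hc0 ((map_eq_zero _).1 hac.symm)
    refine ⟨algebraMap F L d / a, ?_⟩
    rw [div_mul_div_comm, ← map_mul, ← hd, hac, map_mul, map_neg, map_one, neg_mul, one_mul, neg_div, div_self]
    rwa [Ne, map_eq_zero]

/-- **Box D5**, abstract form. -/
theorem box_D5_of {G Ω : Type} [Group G] [Finite G] [MulAction G Ω] [Nonempty Ω] {N : Subgroup G}
    {ρ : ↥(E Q) →* G} [Finite L] (hG : Good Q) (hE : Env G Ω N) (hρ : Rep Q N ρ) (hIH : IH (Nat.card (P Q)))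
    {p : ℕ} [CharP F p] (hLR : LR Q Ω ρ p) {ι : Type} [Finite ι] {x : ι → G} {M : ι → Gam Q} {r : ι → ℕ}
    (hl : ∀ i, Lf ρ (x i) (M i)) (hlin : ∀ i, IsLin (M i)) (hx : PF x r) (hcov : Cov Ω x)
    (hL : Good QL) (hQ : ∀ v, l (QL v) = Q v) (α : L) (hα : ∀ a : F, α ≠ algebraMap F L a)
    (hsim : ∀ i, ∃ ML : Gam QL, (M i).1 = ML.1)
    (hadj : ∀ (a : L) (v w : V), polar Q (a • v) w = polar Q v (a • w)) : False := by
  have hfd : FiniteDimensional L V := Module.Finite.of_restrictScalars_finite F L V
  have hfinP : Finite (P Q) := Cfsg.Agent.H236.RC.finite_P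
  have hfinPL : Finite (P QL) := Cfsg.Agent.H236.RC.finite_P
  let φ : ↥(E QL) →* G := ρ.comp (psi hG hL hQ)
  obtain ⟨π, hπ, hker, -⟩ := exists_pi φ (ker_comp hG hL hQ hρ)
  have hMN : φ.range ≤ N := by
    rw [← hρ.range]
    rintro _ ⟨g, rfl⟩
    exact ⟨_, rfl⟩
  have hne : φ.range ≠ N := range_ne hG hL hQ hρ α hα
  obtain ⟨h1, h2, h3, h4⟩ := Cfsg.Agent.H236.RC.box_id hL
  have h4' : ¬ Exc (P QL) := by
    refine h4.resolve_left ?_
    rintro ⟨hcard, -⟩
    obtain ⟨b, hb⟩ : ∃ b : F, algebraMap F L b = α := by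
      have h5 : Function.Bijective (algebraMap F L) := by
        have : Nat.card F ≤ Nat.card L := Nat.card_le_card_of_injective _ (algebraMap F L).injective
        have h6 : 1 < Nat.card F := Finite.one_lt_card
        exact (Nat.bijective_iff_injective_and_card _).2 ⟨(algebraMap F L).injective, by omega⟩
      exact h5.2 α
    exact hα b hb.symm
  have eN : Nonempty (N ≃* P Q) := by
    rw [← hρ.range]
    exact ⟨((QuotientGroup.quotientMulEquivOfEq hρ.ker.symm).trans
      (QuotientGroup.quotientKerEquivRange ρ)).symm⟩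
  obtain ⟨eN⟩ := eN
  have hrule := mrule_IH hIH eN hMN hne (range_perfect φ (commutator_E hL)) π hπ hker h1 h2 h3 h4' hx hcov
    (fun i => by
      obtain ⟨ML, hML⟩ := hsim i
      exact mem_norm hG hL hQ (hl i) ML hML) (Ω := Ω)
  have hscal : ∀ j, (∀ m ∈ φ.range, x j * m = m * x j) → ∃ a : L, ∀ v, (M j).1 v = a • v := by
    intro j hj
    obtain ⟨ML, hML⟩ := hsim j
    obtain ⟨a, -, ha⟩ := scal_of_cent hG hL hQ hρ (hl j) ML hML hj
    exact ⟨a, ha⟩
  by_cases hJ : ∃ j, ∀ m ∈ φ.range, x j * m = m * x j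
  · obtain ⟨j, hj⟩ := hJ
    obtain ⟨a, ha⟩ := hscal j hj
    obtain ⟨⟨c, hc⟩, haF, hx2⟩ := scal_member hG hE hρ (hl j) (hlin j) (hx.ne j) hadj ha
    obtain ⟨hF2, s, hs⟩ := exists_sq hc haF
    have hr2 : ∀ k, (∀ m ∈ φ.range, x k * m = m * x k) → r k = 2 := by
      intro k hk
      obtain ⟨b, hb⟩ := hscal k hk
      obtain ⟨-, -, hk2⟩ := scal_member hG hE hρ (hl k) (hlin k) (hx.ne k) hadj hb
      have h5 : orderOf (x k) = r k := (orderOf_eq_prime_iff (hp := ⟨hx.prime k⟩)).2 ⟨hx.pow k, hx.ne k⟩
      have h6 := orderOf_dvd_of_pow_eq_one hk2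
      rw [h5] at h6
      exact (Nat.prime_dvd_prime_iff_eq (hx.prime k) Nat.prime_two).1 h6
    have hp2 : p ≠ 2 := by
      rintro rfl
      exact hF2 (by exact_mod_cast CharP.cast_eq_zero F 2)
    -- the involution of `M`
    obtain ⟨e, f, hef⟩ := hL.exists_hyp
    have hs0 : s ≠ 0 := by
      rintro rfl
      rw [mul_zero] at hs
      exact one_ne_zero (neg_eq_zero.1 hs.symm)
    let y : V ≃ₗ[L] V := H140.OreO.hsc hef (Units.mk0 s hs0 * Units.mk0 s hs0)
    have hyE : y ∈ E QL := by
      rw [← hL.commutator_eq_E]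
      exact H140.OreO.hsc_sq hL hef _
    have hy : ∀ v, y v = v + (((-1 : L) - 1) * polar QL f v) • e + (((-1 : L) - 1) * polar QL e v) • f := by
      intro v
      have h5 : ((Units.mk0 s hs0 * Units.mk0 s hs0 : Lˣ) : L) = -1 := by
        rw [Units.val_mul, Units.val_mk0, hs]
      have h6 : (((Units.mk0 s hs0 * Units.mk0 s hs0 : Lˣ)⁻¹ : Lˣ) : L) = -1 := by
        rw [Units.val_inv_eq_inv_val, h5, inv_neg, inv_one]
      show H140.OreO.hsc hef _ v = _
      rw [H140.OreO.hsc_apply, h5, h6]
      abel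
    have hye : y e = -e := by
      rw [hy, hef.pair', polar_self, hef.left]
      simp only [mul_one, smul_zero, mul_zero, zero_smul, add_zero]
      module
    let m : G := φ ⟨y, hyE⟩
    have hm : m ∈ φ.range := ⟨_, rfl⟩
    have hyy : ∀ v, y (y v) = v := by
      intro v
      have h5 : y * y = 1 := by
        show H140.OreO.hsc hef _ * H140.OreO.hsc hef _ = 1
        rw [← map_mul]
        have h6 : (Units.mk0 s hs0 * Units.mk0 s hs0) * (Units.mk0 s hs0 * Units.mk0 s hs0) = (1 : Lˣ) := by
          apply Units.ext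
          rw [Units.val_mul, Units.val_mul, Units.val_mk0, hs, Units.val_one]
          ring
        rw [h6, map_one]
      exact LinearEquiv.congr_fun h5 v
    have hm2 : m ^ 2 = 1 := by
      rw [← map_pow]
      have h5 : (⟨y, hyE⟩ : ↥(E QL)) ^ 2 = 1 := by
        rw [pow_two]
        apply Subtype.ext
        apply LinearEquiv.ext
        intro v
        exact hyy v
      rw [h5, map_one]
    have hlm : Lf ρ m (tg Q (psi hG hL hQ ⟨y, hyE⟩)) := Lf.tg _
    have hmv : ∀ v, (tg Q (psi hG hL hQ ⟨y, hyE⟩)).1 v = y v := fun v => rfl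
    have h2L : (2 : L) ≠ 0 := by
      have h5 : algebraMap F L 2 ≠ 0 := by rwa [Ne, map_eq_zero]
      rwa [map_ofNat] at h5
    have he0 : e ≠ 0 := by
      rintro rfl
      have h5 := hef.pair
      rw [polar_zero_left] at h5
      exact zero_ne_one h5
    have hm1 : m ≠ 1 := by
      rw [Ne, hlm.eq_one_iff hG hE hρ]
      rintro ⟨b, hb0, hb⟩
      obtain ⟨w, hw0, -, hw1, hw2⟩ := hL.perp e f hef
      have h5 := hb e
      have h6 := hb w
      rw [hmv, hye] at h5
      rw [hmv, hy, hw1, hw2, mul_zero, zero_smul, zero_smul, add_zero, add_zero] at h6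
      have hb1 : (1 : L) = algebraMap F L b := by
        apply smul_left_injective L hw0
        show (1 : L) • w = algebraMap F L b • w
        rw [one_smul, algebraMap_smul]; exact h6
      have hb2 : (-1 : L) = algebraMap F L b := by
        apply smul_left_injective L he0
        show (-1 : L) • e = algebraMap F L b • e
        rw [neg_smul, one_smul, algebraMap_smul]; exact h5
      apply h2L
      linear_combination hb1 - hb2
    -- the plane
    have hQe : Q e = 0 := by rw [← hQ, hef.left, map_zero]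
    have hQae : Q (a • e) = 0 := by rw [← hQ, QuadraticMap.map_smul, hef.left, smul_zero, map_zero]
    have hQeae : polar Q e (a • e) = 0 := by
      have h5 : Q (e + a • e) = 0 := by
        have h6 : e + a • e = (1 + a) • e := by module
        rw [h6, ← hQ, QuadraticMap.map_smul, hef.left, smul_zero, map_zero]
      rw [polar, h5, hQe, hQae]; simp
    have hind : ∀ b : F, a • e ≠ b • e := by
      intro b hb
      apply haF b
      apply smul_left_injective L he0
      show a • e = algebraMap F L b • e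
      rw [algebraMap_smul]; exact hb
    have hspan : ∀ v ∈ Submodule.span F {e, a • e}, y v = -v ∧ a • v ∈ Submodule.span F {e, a • e} := by
      intro v hv
      obtain ⟨b, d, rfl⟩ := Submodule.mem_span_pair.1 hv
      have h5 : b • e + d • a • e = (algebraMap F L b + algebraMap F L d * a) • e := by
        rw [add_smul, mul_smul, algebraMap_smul, algebraMap_smul]
      constructor
      · rw [h5, map_smul, hye, smul_neg]
      · rw [smul_add, smul_comm a b, smul_comm a d, smul_smul, hc, algebraMap_smul]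
        refine Submodule.add_mem _ (Submodule.smul_mem _ _ (Submodule.subset_span (Or.inr rfl)))
          (Submodule.smul_mem _ _ (Submodule.smul_mem _ _ (Submodule.subset_span (Or.inl rfl))))
    refine hLR Bool (y := fun b => if b then m else x j) (L := fun b => if b then tg Q (psi hG hL hQ ⟨y, hyE⟩) else M j)
      (s := fun _ => 2) ?_ (fun _ => Nat.prime_two) (fun _ => hp2.symm) ?_ ?_ ?_ hQe hQae hQeae he0 hind ?_ ?_
    · rintro (_ | _)
      · exact hl j
      · exact hlm
    · rintro (_ | _)
      · exact hx2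
      · exact hm2
    · rintro (_ | _)
      · exact hx.ne j
      · exact hm1
    · rintro (_ | _) (_ | _)
      · rfl
      · exact hj m hm
      · exact (hj m hm).symm
      · rfl
    · rintro (_ | _) v hv
      · show (M j).1 v ∈ _
        rw [ha]
        exact (hspan v hv).2
      · show y v ∈ _
        rw [(hspan v hv).1]
        exact Submodule.neg_mem _ hv
    · intro ω
      right
      rcases Cov.ofM hrule hm ω with h5 | ⟨k, hk, h5⟩
      · exact ⟨true, h5⟩
      · have h6 : k = j := hx.inj ((hr2 k hk).trans (hr2 j hj).symm)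
        rw [h6] at h5
        exact ⟨false, h5⟩
  · push Not at hJ
    refine no_cent hE hrule (fun j hj => ?_) ?_
    · obtain ⟨m, hm, h5⟩ := hJ j
      exact h5 (hj m hm)
    · intro hbot
      apply h2
      have : Subsingleton φ.range := by rw [hbot]; infer_instance
      have : Subsingleton (P QL) := hπ.subsingleton
      exact ⟨⟨fun a b => Subsingleton.elim _ _⟩⟩

end Cfsg.Agent.H479.RC
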