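import Cfsg.Agent.H138.RC.Base
import Cfsg.Agent.H138.RC.BoxP

/-!
# S3510, row F, boxes D: restriction of scalars (helper479)

`L` an extension field of `F`, `V` an `L`-space, `QL` a quadratic form over `L`, `Q = l (QL)` for a linear functional `l` of `L`.
-/

set_option autoImplicit false
open Cfsg

namespace Cfsg.Agent.H479.RC

open QuadraticMap MulAction
open Cfsg.Agent.LieClassical.OrthCore Cfsg.Agent.LieClassical.OrthTrans
open Cfsg.Agent.LieClassical.OrthSimple Cfsg.Agent.ClassicalGeometry.OrthSemi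
open Cfsg.Agent.ClassicalGeometry.OrthAut1 Cfsg.Agent.H106.RC Cfsg.Agent.H93.RC Cfsg.Agent.H188.RC

section gen

variable {H G : Type*} [Group H] [Group G]

/-- the range of a homomorphism with central kernel has the quotient by the centre as a central quotient -/
theorem exists_pi (φ : H →* G) (hk : φ.ker ≤ Subgroup.center H) :
    ∃ π : φ.range →* (H ⧸ Subgroup.center H), Function.Surjective π ∧
      π.ker ≤ Subgroup.center φ.range ∧ ∀ h, π ⟨φ h, ⟨h, rfl⟩⟩ = QuotientGroup.mk h := by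
  let e := QuotientGroup.quotientKerEquivRange φ
  let f : H ⧸ φ.ker →* H ⧸ Subgroup.center H :=
    QuotientGroup.map φ.ker (Subgroup.center H) (MonoidHom.id H) hk
  have hf : ∀ h : H, f (QuotientGroup.mk h) = QuotientGroup.mk h := fun h => rfl
  have hval : ∀ h, (f.comp e.symm.toMonoidHom) ⟨φ h, ⟨h, rfl⟩⟩ = QuotientGroup.mk h := by
    intro h
    have h1 : e (QuotientGroup.mk h) = ⟨φ h, ⟨h, rfl⟩⟩ := rfl
    show f (e.symm ⟨φ h, ⟨h, rfl⟩⟩) = _
    rw [← h1, MulEquiv.symm_apply_apply, hf]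
  refine ⟨f.comp e.symm.toMonoidHom, ?_, ?_, hval⟩
  · intro y
    obtain ⟨h, rfl⟩ := QuotientGroup.mk_surjective y
    exact ⟨_, hval h⟩
  · rintro ⟨_, ⟨h, rfl⟩⟩ hm
    rw [MonoidHom.mem_ker, hval, QuotientGroup.eq_one_iff] at hm
    rw [Subgroup.mem_center_iff]
    rintro ⟨_, ⟨k, rfl⟩⟩
    apply Subtype.ext
    show φ k * φ h = φ h * φ k
    rw [← map_mul, ← map_mul, Subgroup.mem_center_iff.1 hm]

/-- the range of a perfect group is perfect -/
theorem range_perfect (φ : H →* G) (h : commutator H = ⊤) : ⁅φ.range, φ.range⁆ = φ.range := by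
  rw [MonoidHom.range_eq_map, ← Subgroup.map_commutator, ← commutator_def, h]

end gen

variable {F V L : Type*} [Field F] [AddCommGroup V] [Module F V] [Field L] [Algebra F L] [Module L V]
  [IsScalarTower F L V] {Q : QuadraticForm F V} {QL : QuadraticForm L V} {l : L →ₗ[F] F}

/-- restriction of scalars -/
def rst (F : Type*) {V L : Type*} [Field F] [AddCommGroup V] [Module F V] [Field L] [Algebra F L] [Module L V]
    [IsScalarTower F L V] : (V ≃ₗ[L] V) →* (V ≃ₗ[F] V) where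
  toFun g := g.restrictScalars F
  map_one' := rfl
  map_mul' _ _ := rfl

theorem rst_apply (g : V ≃ₗ[L] V) (v : V) : rst F g v = g v := rfl

theorem rst_mem_O (hQ : ∀ v, l (QL v) = Q v) {g : V ≃ₗ[L] V} (hg : g ∈ O QL) : rst F g ∈ O Q := by
  intro v
  rw [rst_apply, ← hQ, ← hQ, hg v]

theorem rst_mem_E (hG : Good Q) (hL : Good QL) (hQ : ∀ v, l (QL v) = Q v) {g : V ≃ₗ[L] V}
    (hg : g ∈ E QL) : rst F g ∈ E Q := by
  rw [← hL.E_perfect] at hg
  have h1 : (⁅E QL, E QL⁆).map (rst F) ≤ ⁅O Q, O Q⁆ := by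
    rw [Subgroup.map_commutator]
    refine Subgroup.commutator_mono ?_ ?_ <;>
    · rintro _ ⟨k, hk, rfl⟩
      exact rst_mem_O hQ (E_le_O hk)
  rw [hG.commutator_eq_E] at h1
  exact h1 ⟨g, hg, rfl⟩

/-- `E QL →* E Q` -/
def psi (hG : Good Q) (hL : Good QL) (hQ : ∀ v, l (QL v) = Q v) : ↥(E QL) →* ↥(E Q) where
  toFun g := ⟨rst F g.1, rst_mem_E hG hL hQ g.2⟩
  map_one' := rfl
  map_mul' _ _ := rfl

theorem psi_apply (hG : Good Q) (hL : Good QL) (hQ : ∀ v, l (QL v) = Q v) (g : ↥(E QL)) (v : V) :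
    (psi hG hL hQ g : V ≃ₗ[F] V) v = (g : V ≃ₗ[L] V) v := rfl

theorem psi_injective (hG : Good Q) (hL : Good QL) (hQ : ∀ v, l (QL v) = Q v) :
    Function.Injective (psi hG hL hQ) := by
  intro a b hab
  apply Subtype.ext
  apply LinearEquiv.ext
  intro v
  rw [← psi_apply hG hL hQ, hab, psi_apply]

section conj

variable {G : Type*} [Group G] {N : Subgroup G} {ρ : ↥(E Q) →* G}

/-- conjugation by an element which is semilinear over both fields -/
theorem conj_psi (hG : Good Q) (hL : Good QL) (hQ : ∀ v, l (QL v) = Q v) (M : Gam Q) (ML : Gam QL)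
    (h : M.1 = ML.1) (g : ↥(E QL)) : conjE Q M (psi hG hL hQ g) = psi hG hL hQ (conjE QL ML g) := by
  apply Subtype.ext
  apply LinearEquiv.ext
  intro v
  obtain ⟨v, rfl⟩ := M.1.surjective v
  rw [coe_conjE, conjLin_apply', psi_apply, psi_apply, coe_conjE]
  conv_rhs => rw [h]
  rw [conjLin_apply', h]

theorem x_conj (hG : Good Q) (hL : Good QL) (hQ : ∀ v, l (QL v) = Q v) {x : G} {M : Gam Q}
    (hl : Lf ρ x M) (ML : Gam QL) (h : M.1 = ML.1) (g : ↥(E QL)) :
    x * (ρ.comp (psi hG hL hQ)) g * x⁻¹ = (ρ.comp (psi hG hL hQ)) (conjE QL ML g) := by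
  rw [MonoidHom.comp_apply, MonoidHom.comp_apply, hl, conj_psi hG hL hQ M ML h]

theorem ker_comp (hG : Good Q) (hL : Good QL) (hQ : ∀ v, l (QL v) = Q v) (hρ : Rep Q N ρ) :
    (ρ.comp (psi hG hL hQ)).ker ≤ Subgroup.center ↥(E QL) := by
  intro g hg
  rw [MonoidHom.mem_ker, MonoidHom.comp_apply, ← MonoidHom.mem_ker, hρ.ker, Subgroup.mem_center_iff] at hg
  rw [Subgroup.mem_center_iff]
  intro k
  apply psi_injective hG hL hQ
  rw [map_mul, map_mul, hg]

theorem mem_norm (hG : Good Q) (hL : Good QL) (hQ : ∀ v, l (QL v) = Q v) {x : G} {M : Gam Q}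
    (hl : Lf ρ x M) (ML : Gam QL) (h : M.1 = ML.1) :
    x ∈ Subgroup.normalizer ((ρ.comp (psi hG hL hQ)).range : Set G) := by
  rw [Subgroup.mem_normalizer_iff]
  intro m
  constructor
  · rintro ⟨g, rfl⟩
    rw [x_conj hG hL hQ hl ML h]
    exact ⟨_, rfl⟩
  · rintro ⟨g, hg⟩
    refine ⟨conjE QL ML⁻¹ g, ?_⟩
    have h1 := x_conj hG hL hQ hl ML h (conjE QL ML⁻¹ g)
    have h2 : conjE QL ML (conjE QL ML⁻¹ g) = g := by
      rw [← MulAut.mul_apply, ← map_mul, mul_inv_cancel, map_one]; rfl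
    rw [h2, hg] at h1
    exact mul_left_cancel (mul_right_cancel h1)

/-- an element centralising the image of `E QL` is a scalar of `L` -/
theorem scal_of_cent (hG : Good Q) (hL : Good QL) (hQ : ∀ v, l (QL v) = Q v) (hρ : Rep Q N ρ)
    {x : G} {M : Gam Q} (hl : Lf ρ x M) (ML : Gam QL) (h : M.1 = ML.1)
    (hc : ∀ m ∈ (ρ.comp (psi hG hL hQ)).range, x * m = m * x) : ∃ a : L, a ≠ 0 ∧ ∀ v, M.1 v = a • v := by
  have h1 : ∀ g, (ρ.comp (psi hG hL hQ)) (conjE QL ML g) = (ρ.comp (psi hG hL hQ)) g := by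
    intro g
    rw [← x_conj hG hL hQ hl ML h, hc _ ⟨g, rfl⟩, mul_inv_cancel_right]
  have h2 : Psi QL ML = 1 := by
    ext t
    obtain ⟨t, rfl⟩ := QuotientGroup.mk_surjective t
    rw [Psi_mk]
    show (QuotientGroup.mk (conjE QL ML t) : P QL) = QuotientGroup.mk t
    rw [eq_comm, QuotientGroup.eq]
    apply ker_comp hG hL hQ hρ
    rw [MonoidHom.mem_ker, map_mul, map_inv, h1]
    group
  have h3 : conjE QL ML = 1 := eq_one_of_quotAut (commutator_E hL) _ h2
  obtain ⟨a, ha, h4⟩ := exists_scalar_of_conjE hL ML h3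
  exact ⟨a, ha, fun v => by rw [h]; exact h4 v⟩

/-- the image is not everything, if there is a line of `F` which is no line of `L` -/
theorem range_ne (hG : Good Q) (hL : Good QL) (hQ : ∀ v, l (QL v) = Q v) (hρ : Rep Q N ρ)
    (α : L) (hα : ∀ a : F, α ≠ algebraMap F L a) : (ρ.comp (psi hG hL hQ)).range ≠ N := by
  intro heq
  obtain ⟨u, w, hu, hw, huw, hu0, hind⟩ := exists_plane hL
  have hQu : Q u = 0 := by rw [← hQ, hu, map_zero]
  have hQw : Q w = 0 := by rw [← hQ, hw, map_zero]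
  have hQuw : polar Q u w = 0 := by
    rw [polar, ← hQ, ← hQ, ← hQ, ← map_sub, ← map_sub]
    have : QL (u + w) - QL u - QL w = polar QL u w := rfl
    rw [this, huw, map_zero]
  have h1 : ρ (AutOrth.SemiSim.sg Q u w hQu hQuw) ∈ N := by rw [← hρ.range]; exact ⟨_, rfl⟩
  rw [← heq] at h1
  obtain ⟨g, hg⟩ := h1
  have h2 : (psi hG hL hQ g)⁻¹ * AutOrth.SemiSim.sg Q u w hQu hQuw ∈ Subgroup.center ↥(E Q) := by
    rw [← hρ.ker, MonoidHom.mem_ker, map_mul, map_inv, ← hg, MonoidHom.comp_apply, inv_mul_cancel]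
  obtain ⟨a, ha, h3⟩ := scal_of_center hG h2
  have h4 : ∀ v, (AutOrth.SemiSim.sg Q u w hQu hQuw : V ≃ₗ[F] V) v = a • (g : V ≃ₗ[L] V) v := by
    intro v
    have h5 := h3 v
    have h6 := congrArg (psi hG hL hQ g : V ≃ₗ[F] V) h5
    rw [map_smul] at h6
    have h7 : (psi hG hL hQ g : V ≃ₗ[F] V) ((((psi hG hL hQ g)⁻¹ *
        AutOrth.SemiSim.sg Q u w hQu hQuw : ↥(E Q)) : V ≃ₗ[F] V) v) =
        (AutOrth.SemiSim.sg Q u w hQu hQuw : V ≃ₗ[F] V) v :=
      (psi hG hL hQ g : V ≃ₗ[F] V).apply_symm_apply _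
    rw [h7] at h6
    exact h6
  have hcomm : ∀ v, (AutOrth.SemiSim.sg Q u w hQu hQuw : V ≃ₗ[F] V) (α • v) =
      α • (AutOrth.SemiSim.sg Q u w hQu hQuw : V ≃ₗ[F] V) v := by
    intro v
    rw [h4, h4, map_smul, smul_comm]
  -- evaluate
  obtain ⟨v, hv⟩ := hG.nondeg.exists_polar_ne hu0
  have h5 := hcomm v
  have hs : ∀ v, (AutOrth.SemiSim.sg Q u w hQu hQuw : V ≃ₗ[F] V) v =
      v + (polar Q u v • w - polar Q w v • u) := by
    intro v
    show siegel Q u w hQu hQuw v = _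
    rw [siegel_apply, hQw]
    module
  rw [hs, hs, smul_add] at h5
  have h6 := add_left_cancel h5
  have h7 : (algebraMap F L (polar Q u (α • v)) - α * algebraMap F L (polar Q u v)) • w =
      (algebraMap F L (polar Q w (α • v)) - α * algebraMap F L (polar Q w v)) • u := by
    rw [smul_sub, ← algebraMap_smul L (polar Q u (α • v)) w, ← algebraMap_smul L (polar Q w (α • v)) u,
      ← algebraMap_smul L (polar Q u v) w, ← algebraMap_smul L (polar Q w v) u] at h6
    linear_combination (norm := module) h6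
  by_cases h8 : algebraMap F L (polar Q u (α • v)) - α * algebraMap F L (polar Q u v) = 0
  · apply hα (polar Q u (α • v) / polar Q u v)
    have hv' : algebraMap F L (polar Q u v) ≠ 0 := by
      rwa [Ne, map_eq_zero]
    rw [map_div₀, eq_div_iff hv']
    exact (sub_eq_zero.1 h8).symm
  · apply hind ((algebraMap F L (polar Q u (α • v)) - α * algebraMap F L (polar Q u v))⁻¹ *
      (algebraMap F L (polar Q w (α • v)) - α * algebraMap F L (polar Q w v)))
    rw [mul_smul, ← h7, smul_smul, inv_mul_cancel₀ h8, one_smul]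

end conj

end Cfsg.Agent.H479.RC
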